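import Cfsg.Agent.Lib.CosetEnum.SuzMult.CentData
import Cfsg.Agent.Lib.CosetEnum.SuzMult.NodeData
import Cfsg.Agent.Lib.CosetEnum.SuzG24.Data

/-! Checks for the centraliser -/

set_option autoImplicit false
set_option maxRecDepth 100000

namespace Cfsg.Lib.CosetEnum.SuzMult

theorem cOrbit0 : orbitOK SuzG24.tabP cOrb0 cPos0 7 1782 cLevel0.c cU0 cLevel0.c 0 = true := by decide +kernel

theorem cNest0 : nestOK SuzG24.tabP 7 cLevel0 cU1 = true := by decide +kernel

theorem cOrbit1 : orbitOK SuzG24.tabP cOrb1 cPos1 7 1782 cLevel1.c cU1 cLevel1.c 0 = true := by decide +kernel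

theorem cNest1 : nestOK SuzG24.tabP 7 cLevel1 cU2 = true := by decide +kernel

theorem cOrbit2 : orbitOK SuzG24.tabP cOrb2 cPos2 7 1782 cLevel2.c cU2 cLevel2.c 0 = true := by decide +kernel

theorem cNest2 : nestOK SuzG24.tabP 7 cLevel2 cU3 = true := by decide +kernel

theorem cOrbit3 : orbitOK SuzG24.tabP cOrb3 cPos3 7 1782 cLevel3.c cU3 cLevel3.c 0 = true := by decide +kernel

theorem cNest3 : nestOK SuzG24.tabP 7 cLevel3 [] = true := by decide +kernel

theorem comms_ok : (comms.all commOK && (cU0.all fun u => comms.any fun P => beqW P.1 u)) = true := by decide +kernel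

theorem fixed_ok : fixedIn fixPts 1782 0 = true := by decide +kernel

theorem node0_ok : keysFrom 0 (node0.map (unpk 512)) = true := by decide +kernel

theorem node1_ok : keysFrom 18024363220383259 (node1.map (unpk 512)) = true := by decide +kernel

theorem node2_ok : keysFrom 68684517566046281 (node2.map (unpk 512)) = true := by decide +kernel

theorem node3_ok : keysFrom 153791930626282137 (node3.map (unpk 512)) = true := by decide +kernel

theorem node4_ok : keysFrom 230324761983586982 (node4.map (unpk 512)) = true := by decide +kernel

theorem node5_ok : keysFrom 300382797979673870 (node5.map (unpk 512)) = true := by decide +kernel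

theorem node6_ok : keysFrom 366005045319194325 (node6.map (unpk 512)) = true := by decide +kernel

theorem node7_ok : keysFrom 427351117170353561 (node7.map (unpk 512)) = true := by decide +kernel

theorem node8_ok : keysFrom 475774640817288030 (node8.map (unpk 512)) = true := by decide +kernel

end Cfsg.Lib.CosetEnum.SuzMult
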