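import Cfsg.Agent.Lib.CosetEnum.SuzMult.Mats
import Cfsg.Agent.Lib.CosetEnum.MatSeven
import Cfsg.Agent.Lib.CosetEnum.SuzG24.Data

/-! Kernel checks on the matrices. -/

set_option autoImplicit false
set_option maxRecDepth 100000

namespace Cfsg.Lib.CosetEnum.SuzMult

open MatSeven

theorem mats_inv : (Nat.beq mats.length 7 &&
    (List.range 7).all fun g => invOK 12 (mats.getD g []) (matsInv.getD g [])) = true := by decide +kernel

theorem mats_rel : (Nat.beq relPow.length 54 && Nat.beq SuzG24.cert.R0.length 54 &&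
    (List.range 54).all fun i =>
      valOK 12 mats ((3 ^ relPow.getD i 0) % 7) (SuzG24.cert.R0.getD i [])) = true := by decide +kernel

theorem mats_lam : (valOK 12 mats 3 lamWord && Nat.beq (lamWord.length % 2) 0 &&
    lamWord.all fun g => [0, 1, 2, 5, 6].any (Nat.beq g)) = true := by decide +kernel

theorem mats_square : ([0, 1, 2, 5, 6].all fun g => valOK 12 mats 1 [g, g]) = true := by decide +kernel

theorem mats_braid : ([(0, 1, 5), (1, 2, 3), (1, 5, 3), (1, 6, 3)].all fun p =>
    valOK 12 mats 1 (List.replicate p.2.2 [p.2.1, p.1]).flatten) = true := by decide +kernel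

theorem mats_noncomm :
    toMat 12 (prodL 12 mats [0, 1]) ≠ toMat 12 (prodL 12 mats [1, 0]) := by decide +kernel

end Cfsg.Lib.CosetEnum.SuzMult
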