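import Cfsg.Agent.Lib.CosetEnum.SuzMult.ProgData
import Cfsg.Agent.Lib.CosetEnum.SuzG24.Data

/-! Checks of the programs -/

set_option autoImplicit false
set_option maxRecDepth 100000

namespace Cfsg.Lib.CosetEnum.SuzMult

theorem exs_ok : exsOK data.ws exs = true := by decide +kernel

theorem refs_ok : (refOK data false && refOK data true) = true := by decide +kernel

theorem ws_ok : ((wsTab.all fun r => r.all fun c => SuzOut.letters (unpk 512 c)) &&
    msTab.all fun r => r.all fun c => SuzOut.letters (unpk 512 c)) = true := by decide +kernel

theorem cube_ok : (runW data progCube (omSeq ++ omSeq ++ omSeq) [] &&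
    Nat.beq (triCount data false progCube % 2) 0 && Nat.beq (triCount data true progCube % 2) 0) = true := by decide +kernel

theorem om_ok : SuzOut.sameW (omSeq.reverse.flatMap (cwAt data.ws)) [] = true := by decide +kernel

theorem prog0_ok : progsW data exs omSeq ((SuzG24.cert.R0.drop 0).take 9) progs0 = true := by decide +kernel

theorem prog1_ok : progsW data exs omSeq ((SuzG24.cert.R0.drop 9).take 9) progs1 = true := by decide +kernel

theorem prog2_ok : progsW data exs omSeq ((SuzG24.cert.R0.drop 18).take 9) progs2 = true := by decide +kernel

theorem prog3_ok : progsW data exs omSeq ((SuzG24.cert.R0.drop 27).take 9) progs3 = true := by decide +kernel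

theorem prog4_ok : progsW data exs omSeq ((SuzG24.cert.R0.drop 36).take 9) progs4 = true := by decide +kernel

theorem prog5_ok : progsW data exs omSeq ((SuzG24.cert.R0.drop 45).take 8) progs5 = true := by decide +kernel

theorem long_start : seqW exs (SuzG24.cert.R0.getD 53 []) = mid0 := by decide +kernel

theorem long0_ok : runW data long0 mid0 mid1 = true := by decide +kernel

theorem long1_ok : runW data long1 mid1 mid2 = true := by decide +kernel

theorem long2_ok : runW data long2 mid2 mid3 = true := by decide +kernel

theorem long3_ok : runW data long3 mid3 mid4 = true := by decide +kernel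

theorem long4_ok : runW data long4 mid4 mid5 = true := by decide +kernel

theorem long5_ok : runW data long5 mid5 mid6 = true := by decide +kernel

theorem long6_ok : runW data long6 mid6 mid7 = true := by decide +kernel

theorem long7_ok : runW data long7 mid7 mid8 = true := by decide +kernel

theorem long8_ok : runW data long8 mid8 mid9 = true := by decide +kernel

theorem long9_ok : runW data long9 mid9 mid10 = true := by decide +kernel

theorem long10_ok : runW data long10 mid10 mid11 = true := by decide +kernel

theorem long11_ok : runW data long11 mid11 mid12 = true := by decide +kernel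

theorem long12_ok : runW data long12 mid12 mid13 = true := by decide +kernel

theorem long13_ok : runW data long13 mid13 mid14 = true := by decide +kernel

theorem long14_ok : runW data long14 mid14 mid15 = true := by decide +kernel

/-- The long program. -/
def progLong : Nat × List Op := (0, long0 ++ (long1 ++ (long2 ++ (long3 ++ (long4 ++ (long5 ++ (long6 ++ (long7 ++ (long8 ++ (long9 ++ (long10 ++ (long11 ++ (long12 ++ (long13 ++ (long14)))))))))))))))

theorem long_parity : parityOK data exs (SuzG24.cert.R0.getD 53 []) progLong = true := by decide +kernel

end Cfsg.Lib.CosetEnum.SuzMult
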