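import Cfsg.Agent.Lib.CosetEnum.SuzOut.Defs

/-!
# Rewriting products of conjugates of an involution of the Suzuki group

An index stands for a word `u`, and this for the conjugate of the first generator by `u`.  Two commuting
conjugates whose product is a conjugate form, with it, a triangle of one of two kinds.
-/

set_option autoImplicit false

namespace Cfsg.Lib.CosetEnum.SuzMult

open SuzOut

/-- The word of the conjugate by `u`. -/
def cwW (u : List Nat) : List Nat := u.reverse ++ 0 :: u

/-- The conjugate with an index. -/
def cwAt (ws : Nat → List Nat) (i : Nat) : List Nat := cwW (ws i)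

/-- A word packed four bits a letter, the letters shifted by one. -/
def unpk : Nat → Nat → List Nat
  | 0, _ => []
  | f + 1, c => cond (Nat.beq c 0) [] (Nat.sub (c % 16) 1 :: unpk f (c / 16))

/-- A table of packed words in rows of fifty. -/
def wordTab (T : List (List Nat)) (i : Nat) : List Nat :=
  unpk 512 ((T.getD (i / 50) []).getD (i % 50) 0)

/-- A move: position, code, index, merge number. -/
structure Op where
  i : Nat
  code : Nat
  c : Nat
  j : Nat

/-- A deletion of an equal pair. -/
def opD (i : Nat) : Op := ⟨i, 0, 0, 0⟩

/-- Replace `a, b` by `c, a`. -/
def opS (i c : Nat) : Op := ⟨i, 1, c, 0⟩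

/-- Insert a pair. -/
def opI (i c : Nat) : Op := ⟨i, 2, c, 0⟩

/-- Merge a triangle. -/
def opM (i c j : Nat) : Op := ⟨i, 3, c, j⟩

/-- The certificate data: conjugating words, conjugators of triangles, the two standard triangles. -/
structure Cert where
  ws : Nat → List Nat
  ms : Nat → Bool × List Nat
  refs : Bool → Nat × Nat

/-- The triangle of a move is the conjugate of a standard one. -/
noncomputable def triOK (D : Cert) (a b c j : Nat) : Bool :=
  match D.ms j with
  | (ty, u) => letters u && sameW (u.reverse ++ [0] ++ u) (cwAt D.ws a) &&
      sameW (u.reverse ++ cwAt D.ws (D.refs ty).1 ++ u) (cwAt D.ws b) &&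
      sameW (u.reverse ++ cwAt D.ws (D.refs ty).2 ++ u) (cwAt D.ws c)

/-- One step. -/
noncomputable def stepW (D : Cert) (op : Op) (q : List Nat) : Option (List Nat) :=
  match op.code with
  | 0 => match q.drop op.i with
    | a :: b :: t => cond (Nat.beq a b) (some (q.take op.i ++ t)) none
    | _ => none
  | 1 => match q.drop op.i with
    | a :: b :: t =>
      cond (sameW (cwAt D.ws a ++ cwAt D.ws b ++ cwAt D.ws a) (cwAt D.ws op.c))
        (some (q.take op.i ++ op.c :: a :: t)) none
    | _ => none
  | 2 => some (q.take op.i ++ op.c :: op.c :: q.drop op.i)
  | _ => match q.drop op.i with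
    | a :: b :: t => cond (triOK D a b op.c op.j) (some (q.take op.i ++ op.c :: t)) none
    | _ => none

/-- A program turns one sequence into another. -/
noncomputable def runW (D : Cert) : List Op → List Nat → List Nat → Bool
  | [], q, r => beqW q r
  | op :: ops, q, r => match stepW D op q with
    | some q' => runW D ops q' r
    | none => false

/-- The number of triangles of a kind in a program. -/
def triCount (D : Cert) (ty : Bool) : List Op → Nat
  | [] => 0
  | op :: ops => cond (Nat.ble 3 op.code && (D.ms op.j).1 == ty) 1 0 + triCount D ty ops

/-- The indices for a word, in the order of the product. -/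
def seqW (exs : List (List Nat)) (r : List Nat) : List Nat :=
  r.reverse.flatMap fun g => exs.getD g []

/-- The sequence appended to that of a relator. -/
def tailW (om : List Nat) : Nat → List Nat
  | 0 => []
  | 1 => om
  | _ => om.reverse

/-- A program for a relator: the appended sequence, the moves, and the parity of the length. -/
noncomputable def progOK (D : Cert) (exs : List (List Nat)) (om r : List Nat) (P : Nat × List Op) : Bool :=
  runW D P.2 (seqW exs r ++ tailW om P.1) []

/-- The parities fit. -/
noncomputable def parityOK (D : Cert) (exs : List (List Nat)) (r : List Nat) (P : Nat × List Op) : Bool :=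
  Nat.beq (((seqW exs r).length + triCount D false P.2 + triCount D true P.2) % 2) 0

/-- Programs for a list of relators. -/
noncomputable def progsW (D : Cert) (exs : List (List Nat)) (om : List Nat) :
    List (List Nat) → List (Nat × List Op) → Bool
  | [], [] => true
  | r :: rs, P :: Ps => progOK D exs om r P && parityOK D exs r P && progsW D exs om rs Ps
  | _, _ => false

/-- A standard triangle is one. -/
noncomputable def refOK (D : Cert) (ty : Bool) : Bool :=
  sameW (cwAt D.ws (D.refs ty).1 ++ cwAt D.ws (D.refs ty).2 ++ cwAt D.ws (D.refs ty).1)
      (cwAt D.ws (D.refs ty).2) &&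
    sameW (cwAt D.ws (D.refs ty).2 ++ cwAt D.ws (D.refs ty).1 ++ [0]) []

/-- The sequences of the letters give the letters. -/
noncomputable def exsOK (ws : Nat → List Nat) (exs : List (List Nat)) : Bool :=
  Nat.beq exs.length 7 &&
    (List.range 7).all fun g => sameW ((exs.getD g []).reverse.flatMap (cwAt ws)) [g]

/-- The word of a commutator. -/
def commW (u v : List Nat) : List Nat := v.reverse ++ u.reverse ++ v ++ u

/-- A word commutes with the first generator. -/
noncomputable def centOK (w : List Nat) : Bool := letters w && sameW (w.reverse ++ [0] ++ w) [0]

/-- A word is a product of commutators of elements commuting with the first generator. -/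
noncomputable def commOK (P : List Nat × List (List Nat × List Nat)) : Bool :=
  centOK P.1 && (P.2.all fun p => centOK p.1 && centOK p.2) &&
    sameW (P.2.flatMap fun p => commW p.1 p.2) P.1

/-- The keys of conjugates by words fixing the first point increase. -/
noncomputable def keysFrom : Nat → List (List Nat) → Bool
  | _, [] => true
  | lo, u :: us => letters u && Nat.beq (swalk u 0) 0 &&
      force (keyOf (cwW u)) fun k => Nat.blt lo k && keysFrom k us

/-- The fixed points of the first generator are listed. -/
noncomputable def fixedIn (pts : List Nat) : Nat → Nat → Bool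
  | 0, _ => true
  | n + 1, i => force i fun i =>
      (!Nat.beq (swalk [0] i) i || pts.any (Nat.beq i)) && fixedIn pts n (i + 1)

end Cfsg.Lib.CosetEnum.SuzMult
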