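/-! Data: matrices of degree twelve over the integers modulo seven -/

set_option autoImplicit false
set_option maxRecDepth 100000

namespace Cfsg.Lib.CosetEnum.SuzMult

/-- The matrices of the generators. -/
def mats : List (List (List Nat)) :=
  [[[5, 0, 2, 0, 0, 5, 5, 0, 0, 6, 6, 0],
     [0, 2, 0, 4, 3, 0, 0, 4, 4, 0, 0, 2],
     [1, 0, 5, 0, 0, 3, 3, 0, 0, 5, 5, 0],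
     [0, 1, 0, 3, 1, 0, 0, 2, 2, 0, 0, 1],
     [0, 3, 0, 4, 2, 0, 0, 4, 4, 0, 0, 2],
     [5, 0, 6, 0, 0, 5, 5, 0, 0, 2, 6, 0],
     [5, 0, 6, 0, 0, 5, 5, 0, 0, 6, 2, 0],
     [0, 1, 0, 2, 1, 0, 0, 3, 2, 0, 0, 1],
     [0, 1, 0, 2, 1, 0, 0, 2, 3, 0, 0, 1],
     [3, 0, 5, 0, 0, 1, 3, 0, 0, 5, 5, 0],
     [3, 0, 5, 0, 0, 3, 1, 0, 0, 5, 5, 0],
     [0, 2, 0, 4, 2, 0, 0, 4, 4, 0, 0, 3]],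
   [[5, 3, 0, 0, 2, 4, 6, 3, 6, 0, 2, 3],
     [6, 5, 0, 0, 4, 1, 6, 5, 6, 0, 4, 3],
     [0, 0, 3, 1, 3, 5, 0, 0, 0, 1, 5, 0],
     [0, 0, 4, 3, 6, 3, 0, 0, 0, 2, 3, 0],
     [2, 1, 6, 3, 0, 0, 1, 2, 4, 3, 0, 1],
     [1, 4, 5, 6, 0, 0, 1, 1, 4, 6, 0, 1],
     [3, 3, 0, 0, 4, 4, 5, 5, 3, 0, 1, 3],
     [6, 5, 0, 0, 2, 4, 5, 5, 5, 0, 2, 6],
     [3, 3, 0, 0, 1, 1, 6, 5, 5, 0, 2, 5],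
     [0, 0, 4, 2, 6, 3, 0, 0, 0, 3, 3, 0],
     [2, 1, 5, 6, 0, 0, 4, 2, 2, 6, 0, 4],
     [6, 6, 0, 0, 4, 4, 6, 3, 5, 0, 1, 5]],
   [[5, 0, 6, 5, 0, 0, 3, 6, 1, 1, 3, 1],
     [0, 3, 0, 0, 2, 2, 0, 0, 3, 6, 0, 5],
     [3, 0, 5, 5, 0, 0, 5, 3, 4, 2, 3, 1],
     [5, 0, 5, 5, 0, 0, 5, 5, 1, 4, 5, 2],
     [0, 2, 0, 0, 3, 2, 0, 0, 3, 6, 0, 5],
     [0, 2, 0, 0, 2, 3, 0, 0, 3, 6, 0, 5],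
     [6, 0, 5, 5, 0, 0, 5, 6, 2, 1, 6, 4],
     [3, 0, 6, 5, 0, 0, 3, 5, 4, 4, 6, 4],
     [4, 6, 1, 4, 6, 6, 2, 1, 0, 0, 2, 0],
     [4, 3, 2, 1, 3, 3, 4, 1, 0, 0, 2, 0],
     [6, 0, 6, 5, 0, 0, 3, 3, 2, 2, 5, 2],
     [4, 5, 4, 2, 5, 5, 1, 1, 0, 0, 2, 0]],
   [[1, 3, 4, 4, 4, 2, 3, 6, 1, 6, 1, 6],
     [6, 1, 3, 2, 2, 1, 5, 2, 4, 3, 6, 2],
     [2, 6, 1, 5, 1, 4, 4, 1, 3, 5, 3, 1],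
     [2, 4, 5, 5, 1, 4, 4, 5, 2, 1, 3, 5],
     [2, 4, 1, 1, 5, 4, 6, 1, 3, 1, 3, 5],
     [4, 1, 2, 2, 2, 4, 1, 2, 4, 2, 4, 2],
     [6, 5, 2, 2, 3, 1, 1, 3, 4, 2, 6, 2],
     [3, 4, 1, 5, 1, 4, 6, 5, 3, 1, 2, 1],
     [1, 2, 6, 4, 6, 2, 2, 6, 5, 6, 1, 4],
     [3, 6, 5, 1, 1, 4, 4, 1, 3, 1, 2, 5],
     [1, 3, 6, 6, 6, 2, 3, 4, 1, 4, 1, 4],
     [3, 4, 1, 5, 5, 4, 4, 1, 2, 5, 2, 5]],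
   [[0, 5, 6, 0, 0, 0, 1, 0, 6, 2, 2, 6],
     [4, 0, 2, 4, 2, 2, 5, 4, 0, 3, 6, 0],
     [3, 3, 0, 0, 0, 0, 1, 0, 3, 4, 1, 6],
     [0, 5, 0, 0, 0, 0, 4, 2, 6, 4, 1, 5],
     [0, 3, 0, 0, 2, 0, 4, 0, 3, 2, 2, 5],
     [0, 3, 0, 0, 0, 5, 2, 0, 6, 2, 1, 3],
     [6, 4, 6, 5, 5, 3, 0, 3, 4, 0, 0, 4],
     [0, 5, 0, 2, 0, 0, 2, 0, 3, 4, 2, 3],
     [1, 0, 2, 1, 2, 1, 5, 2, 0, 6, 3, 0],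
     [3, 2, 5, 5, 3, 3, 0, 5, 1, 0, 0, 4],
     [3, 1, 6, 6, 3, 6, 0, 3, 2, 0, 0, 4],
     [1, 0, 1, 4, 4, 2, 5, 2, 0, 5, 5, 0]],
   [[5, 0, 6, 5, 0, 6, 0, 4, 3, 5, 1, 1],
     [0, 3, 0, 0, 2, 0, 1, 3, 0, 0, 3, 5],
     [3, 0, 5, 6, 0, 6, 0, 4, 3, 6, 2, 4],
     [5, 0, 3, 5, 0, 5, 0, 4, 5, 3, 2, 4],
     [0, 2, 0, 0, 3, 0, 1, 3, 0, 0, 3, 5],
     [3, 0, 3, 5, 0, 5, 0, 2, 3, 6, 1, 2],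
     [0, 4, 0, 0, 4, 0, 3, 6, 0, 0, 6, 3],
     [1, 6, 1, 1, 6, 2, 3, 0, 4, 4, 0, 0],
     [6, 0, 6, 5, 0, 6, 0, 1, 5, 6, 2, 2],
     [5, 0, 3, 6, 0, 3, 0, 1, 3, 5, 2, 2],
     [4, 6, 2, 2, 6, 4, 3, 0, 2, 2, 0, 0],
     [4, 5, 1, 1, 5, 2, 6, 0, 2, 2, 0, 0]],
   [[0, 0, 4, 0, 0, 0, 0, 0, 0, 0, 0, 0],
     [0, 1, 0, 0, 0, 0, 0, 0, 0, 0, 0, 0],
     [2, 0, 0, 0, 0, 0, 0, 0, 0, 0, 0, 0],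
     [0, 0, 0, 0, 0, 0, 0, 1, 0, 0, 0, 0],
     [0, 0, 0, 0, 1, 0, 0, 0, 0, 0, 0, 0],
     [0, 0, 0, 0, 0, 1, 0, 0, 0, 0, 0, 0],
     [0, 0, 0, 0, 0, 0, 0, 0, 0, 0, 4, 0],
     [0, 0, 0, 1, 0, 0, 0, 0, 0, 0, 0, 0],
     [0, 0, 0, 0, 0, 0, 0, 0, 0, 0, 0, 4],
     [0, 0, 0, 0, 0, 0, 0, 0, 0, 1, 0, 0],
     [0, 0, 0, 0, 0, 0, 2, 0, 0, 0, 0, 0],
     [0, 0, 0, 0, 0, 0, 0, 0, 2, 0, 0, 0]]]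

/-- Their inverses. -/
def matsInv : List (List (List Nat)) :=
  [[[5, 0, 2, 0, 0, 5, 5, 0, 0, 6, 6, 0],
     [0, 2, 0, 4, 3, 0, 0, 4, 4, 0, 0, 2],
     [1, 0, 5, 0, 0, 3, 3, 0, 0, 5, 5, 0],
     [0, 1, 0, 3, 1, 0, 0, 2, 2, 0, 0, 1],
     [0, 3, 0, 4, 2, 0, 0, 4, 4, 0, 0, 2],
     [5, 0, 6, 0, 0, 5, 5, 0, 0, 2, 6, 0],
     [5, 0, 6, 0, 0, 5, 5, 0, 0, 6, 2, 0],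
     [0, 1, 0, 2, 1, 0, 0, 3, 2, 0, 0, 1],
     [0, 1, 0, 2, 1, 0, 0, 2, 3, 0, 0, 1],
     [3, 0, 5, 0, 0, 1, 3, 0, 0, 5, 5, 0],
     [3, 0, 5, 0, 0, 3, 1, 0, 0, 5, 5, 0],
     [0, 2, 0, 4, 2, 0, 0, 4, 4, 0, 0, 3]],
   [[5, 3, 0, 0, 2, 4, 6, 3, 6, 0, 2, 3],
     [6, 5, 0, 0, 4, 1, 6, 5, 6, 0, 4, 3],
     [0, 0, 3, 1, 3, 5, 0, 0, 0, 1, 5, 0],
     [0, 0, 4, 3, 6, 3, 0, 0, 0, 2, 3, 0],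
     [2, 1, 6, 3, 0, 0, 1, 2, 4, 3, 0, 1],
     [1, 4, 5, 6, 0, 0, 1, 1, 4, 6, 0, 1],
     [3, 3, 0, 0, 4, 4, 5, 5, 3, 0, 1, 3],
     [6, 5, 0, 0, 2, 4, 5, 5, 5, 0, 2, 6],
     [3, 3, 0, 0, 1, 1, 6, 5, 5, 0, 2, 5],
     [0, 0, 4, 2, 6, 3, 0, 0, 0, 3, 3, 0],
     [2, 1, 5, 6, 0, 0, 4, 2, 2, 6, 0, 4],
     [6, 6, 0, 0, 4, 4, 6, 3, 5, 0, 1, 5]],
   [[5, 0, 6, 5, 0, 0, 3, 6, 1, 1, 3, 1],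
     [0, 3, 0, 0, 2, 2, 0, 0, 3, 6, 0, 5],
     [3, 0, 5, 5, 0, 0, 5, 3, 4, 2, 3, 1],
     [5, 0, 5, 5, 0, 0, 5, 5, 1, 4, 5, 2],
     [0, 2, 0, 0, 3, 2, 0, 0, 3, 6, 0, 5],
     [0, 2, 0, 0, 2, 3, 0, 0, 3, 6, 0, 5],
     [6, 0, 5, 5, 0, 0, 5, 6, 2, 1, 6, 4],
     [3, 0, 6, 5, 0, 0, 3, 5, 4, 4, 6, 4],
     [4, 6, 1, 4, 6, 6, 2, 1, 0, 0, 2, 0],
     [4, 3, 2, 1, 3, 3, 4, 1, 0, 0, 2, 0],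
     [6, 0, 6, 5, 0, 0, 3, 3, 2, 2, 5, 2],
     [4, 5, 4, 2, 5, 5, 1, 1, 0, 0, 2, 0]],
   [[6, 4, 3, 3, 3, 5, 4, 1, 6, 1, 6, 1],
     [1, 6, 4, 5, 5, 6, 2, 5, 3, 4, 1, 5],
     [5, 1, 6, 2, 6, 3, 3, 6, 4, 2, 4, 6],
     [5, 3, 2, 2, 6, 3, 3, 2, 5, 6, 4, 2],
     [5, 3, 6, 6, 2, 3, 1, 6, 4, 6, 4, 2],
     [3, 6, 5, 5, 5, 3, 6, 5, 3, 5, 3, 5],
     [1, 2, 5, 5, 4, 6, 6, 4, 3, 5, 1, 5],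
     [4, 3, 6, 2, 6, 3, 1, 2, 4, 6, 5, 6],
     [6, 5, 1, 3, 1, 5, 5, 1, 2, 1, 6, 3],
     [4, 1, 2, 6, 6, 3, 3, 6, 4, 6, 5, 2],
     [6, 4, 1, 1, 1, 5, 4, 3, 6, 3, 6, 3],
     [4, 3, 6, 2, 2, 3, 3, 6, 5, 2, 5, 2]],
   [[0, 1, 4, 0, 0, 0, 3, 0, 4, 6, 6, 4],
     [5, 0, 6, 5, 6, 6, 1, 5, 0, 2, 4, 0],
     [2, 2, 0, 0, 0, 0, 3, 0, 2, 5, 3, 4],
     [0, 1, 0, 0, 0, 0, 5, 6, 4, 5, 3, 1],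
     [0, 2, 0, 0, 6, 0, 5, 0, 2, 6, 6, 1],
     [0, 2, 0, 0, 0, 1, 6, 0, 4, 6, 3, 2],
     [4, 5, 4, 1, 1, 2, 0, 2, 5, 0, 0, 5],
     [0, 1, 0, 6, 0, 0, 6, 0, 2, 5, 6, 2],
     [3, 0, 6, 3, 6, 3, 1, 6, 0, 4, 2, 0],
     [2, 6, 1, 1, 2, 2, 0, 1, 3, 0, 0, 5],
     [2, 3, 4, 4, 2, 4, 0, 2, 6, 0, 0, 5],
     [3, 0, 3, 5, 5, 6, 1, 6, 0, 1, 1, 0]],
   [[5, 0, 6, 5, 0, 6, 0, 4, 3, 5, 1, 1],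
     [0, 3, 0, 0, 2, 0, 1, 3, 0, 0, 3, 5],
     [3, 0, 5, 6, 0, 6, 0, 4, 3, 6, 2, 4],
     [5, 0, 3, 5, 0, 5, 0, 4, 5, 3, 2, 4],
     [0, 2, 0, 0, 3, 0, 1, 3, 0, 0, 3, 5],
     [3, 0, 3, 5, 0, 5, 0, 2, 3, 6, 1, 2],
     [0, 4, 0, 0, 4, 0, 3, 6, 0, 0, 6, 3],
     [1, 6, 1, 1, 6, 2, 3, 0, 4, 4, 0, 0],
     [6, 0, 6, 5, 0, 6, 0, 1, 5, 6, 2, 2],
     [5, 0, 3, 6, 0, 3, 0, 1, 3, 5, 2, 2],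
     [4, 6, 2, 2, 6, 4, 3, 0, 2, 2, 0, 0],
     [4, 5, 1, 1, 5, 2, 6, 0, 2, 2, 0, 0]],
   [[0, 0, 4, 0, 0, 0, 0, 0, 0, 0, 0, 0],
     [0, 1, 0, 0, 0, 0, 0, 0, 0, 0, 0, 0],
     [2, 0, 0, 0, 0, 0, 0, 0, 0, 0, 0, 0],
     [0, 0, 0, 0, 0, 0, 0, 1, 0, 0, 0, 0],
     [0, 0, 0, 0, 1, 0, 0, 0, 0, 0, 0, 0],
     [0, 0, 0, 0, 0, 1, 0, 0, 0, 0, 0, 0],
     [0, 0, 0, 0, 0, 0, 0, 0, 0, 0, 4, 0],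
     [0, 0, 0, 1, 0, 0, 0, 0, 0, 0, 0, 0],
     [0, 0, 0, 0, 0, 0, 0, 0, 0, 0, 0, 4],
     [0, 0, 0, 0, 0, 0, 0, 0, 0, 1, 0, 0],
     [0, 0, 0, 0, 0, 0, 2, 0, 0, 0, 0, 0],
     [0, 0, 0, 0, 0, 0, 0, 0, 2, 0, 0, 0]]]

/-- The relators as powers of the scalar three. -/
def relPow : List Nat := [0, 0, 0, 3, 5, 0, 0, 0, 0, 0, 3, 5, 0, 0, 0, 0, 0, 0, 5, 0, 0, 3, 3, 0, 3, 0, 3, 3, 5, 5, 5, 0, 5, 5, 5, 0, 0, 0, 3, 5, 0, 0, 0, 0, 0, 3, 5, 0, 0, 3, 3, 3, 1, 0]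

/-- A word of even length with scalar three. -/
def lamWord : List Nat :=
  [6, 5, 1, 6, 5, 1, 6, 5, 1, 6, 5, 1, 6, 5, 1, 5, 6, 5, 6, 0, 5, 2, 1, 0, 5, 2, 1, 0, 5, 2, 1, 0, 5, 2, 1, 0, 5, 2, 1, 0]

end Cfsg.Lib.CosetEnum.SuzMult
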