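import Cfsg.Agent.Lib.CosetEnum.SuzMult.Data

/-! Data: programs for the relators -/

set_option autoImplicit false
set_option maxRecDepth 100000

namespace Cfsg.Lib.CosetEnum.SuzMult

/-- Programs. -/
def progs0 : List (Nat × List Op) :=
  [(0, [opD 0]),
   (0, [opS 4 18, opS 3 19, opS 2 20, opS 1 0, opD 0, opD 3, opD 2, opD 1,
    opD 0]),
   (0, [opS 1 0, opD 0, opD 0]),
   (0, [opS 4 21, opS 3 22, opS 2 23, opS 1 0, opD 0, opM 1 24 0, opM 4 24 0, opS 2 25,
    opS 1 26, opM 0 27 1, opM 0 28 2, opS 1 28, opD 0, opD 0]),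
   (1, [opS 4 29, opS 3 30, opS 2 31, opS 1 0, opD 0, opS 4 32, opS 3 33, opS 2 34,
    opM 1 35 3, opS 7 36, opS 6 37, opS 5 38, opS 4 39, opS 3 40, opM 2 41 4, opS 7 42,
    opS 6 43, opS 5 44, opS 4 45, opS 3 46, opS 2 47, opM 1 48 5, opS 6 49, opS 4 50,
    opS 6 1, opS 2 51, opS 7 52, opS 0 53, opS 4 9, opM 3 40 6, opS 6 54, opS 2 55,
    opS 2 56, opS 1 57, opM 0 58 7, opS 5 59, opS 5 60, opS 4 61, opS 3 62, opS 2 63,
    opS 1 54, opM 0 64 8, opS 2 65, opS 1 66, opM 0 67 9, opS 2 68, opM 1 69 10, opS 2 70,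
    opM 1 71 11, opM 0 55 12, opD 0]),
   (0, [opS 1 0, opD 0, opD 0]),
   (0, [opS 1 0, opD 0, opD 0]),
   (0, [opS 4 20, opS 3 19, opS 2 18, opS 1 1, opD 0, opD 3, opD 2, opD 1,
    opD 0]),
   (0, [opD 0])]

/-- Programs. -/
def progs1 : List (Nat × List Op) :=
  [(0, [opS 2 72, opS 1 1, opD 0, opD 1, opD 0]),
   (0, [opS 4 73, opS 3 74, opS 2 75, opS 1 1, opD 0, opM 1 24 0, opM 4 24 0, opS 2 25,
    opS 1 26, opM 0 27 1, opM 0 28 2, opS 1 28, opD 0, opD 0]),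
   (1, [opS 4 49, opS 3 76, opS 2 77, opS 1 1, opD 0, opS 4 32, opS 3 33, opS 2 34,
    opM 1 35 3, opS 7 36, opS 6 37, opS 5 38, opS 4 39, opS 3 40, opM 2 41 4, opS 7 42,
    opS 6 43, opS 5 44, opS 4 45, opS 3 46, opS 2 47, opM 1 48 5, opS 5 78, opS 4 79,
    opS 3 80, opS 1 81, opS 4 82, opS 3 35, opM 2 47 13, opS 6 83, opS 5 84, opS 4 85,
    opS 3 86, opM 2 87 14, opS 5 88, opS 3 79, opS 5 89, opS 2 90, opS 5 91, opS 5 92,
    opS 5 1, opS 5 9, opS 0 93, opS 3 94, opS 5 88, opS 3 95, opS 3 96, opS 2 97,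
    opS 2 96, opS 5 89, opS 4 98, opS 4 99, opS 3 100, opS 5 101, opS 1 102, opS 1 103,
    opS 5 104, opS 0 105, opS 0 81, opS 4 106, opS 4 107, opS 1 69, opS 4 108, opS 3 109,
    opS 1 102, opS 4 110, opS 2 111, opS 5 70, opS 1 112, opS 1 113, opS 3 114, opM 2 115 15,
    opM 3 71 11, opS 1 116, opS 0 117, opS 2 118, opS 3 119, opS 1 120, opS 3 100, opS 2 121,
    opS 0 122, opS 2 123, opM 1 94 16, opM 0 124 17, opM 0 119 18, opD 0]),
   (0, [opS 2 125, opS 1 1, opD 0, opD 1, opD 0]),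
   (0, [opS 2 83, opS 1 1, opD 0, opD 1, opD 0]),
   (0, [opS 1 2, opD 0, opD 0]),
   (0, [opS 2 72, opS 1 2, opD 0, opD 1, opD 0]),
   (0, [opD 0]),
   (0, [opS 19 126, opS 18 127, opS 17 128, opS 16 129, opS 15 130, opS 14 131, opS 13 132, opS 12 133,
    opS 11 13, opS 10 13, opS 9 134, opS 8 135, opS 7 136, opS 6 130, opS 5 129, opS 4 137,
    opS 3 138, opS 2 139, opS 1 2, opD 0, opS 22 126, opS 21 127, opS 20 128, opS 19 129,
    opS 18 137, opS 17 138, opS 16 139, opS 15 2, opD 14, opS 17 25, opS 16 140, opS 15 26,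
    opS 14 26, opS 13 141, opS 12 142, opS 11 3, opD 10, opS 19 25, opS 18 140, opS 17 26,
    opS 16 141, opS 15 142, opS 14 3, opD 13, opS 17 143, opS 16 144, opS 15 144, opS 14 145,
    opS 13 6, opD 12, opS 11 4, opD 10, opD 10, opS 12 4, opD 11, opD 11,
    opD 10, opD 9, opS 12 126, opS 11 127, opS 10 128, opS 9 129, opS 8 137, opS 7 138,
    opS 6 139, opS 5 2, opD 4, opS 7 25, opS 6 140, opS 5 26, opS 4 26, opS 3 141,
    opS 2 142, opS 1 3, opD 0, opS 9 25, opS 8 140, opS 7 26, opS 6 141, opS 5 142,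
    opS 4 3, opD 3, opS 7 143, opS 6 144, opS 5 144, opS 4 145, opS 3 6, opD 2,
    opS 1 4, opD 0, opD 0, opS 2 4, opD 1, opD 1, opD 0])]

/-- Programs. -/
def progs2 : List (Nat × List Op) :=
  [(1, [opS 4 146, opS 3 147, opS 2 148, opS 1 2, opD 0, opS 4 32, opS 3 33, opS 2 34,
    opM 1 35 3, opS 7 36, opS 6 37, opS 5 38, opS 4 39, opS 3 40, opM 2 41 4, opS 7 42,
    opS 6 43, opS 5 44, opS 4 45, opS 3 46, opS 2 47, opM 1 48 5, opS 4 50, opS 3 149,
    opS 5 150, opM 4 151 19, opM 4 82 20, opS 2 152, opS 4 113, opS 5 153, opS 4 154, opS 4 153,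
    opS 5 155, opS 4 156, opS 3 157, opS 2 158, opS 1 82, opM 0 151 21, opS 2 159, opS 0 160,
    opS 4 113, opM 1 161 22, opM 2 162 23, opS 0 163, opS 0 162, opS 0 153, opD 1, opD 0]),
   (0, [opS 1 2, opD 0, opD 0]),
   (0, [opS 1 2, opD 0, opD 0]),
   (0, [opS 8 21, opS 7 22, opS 6 23, opS 5 0, opD 4, opM 1 24 0, opM 4 24 0, opS 2 25,
    opS 1 26, opM 0 27 1, opM 0 28 2, opS 1 28, opD 0, opD 0]),
   (0, [opS 8 73, opS 7 74, opS 6 75, opS 5 1, opD 4, opM 1 24 0, opM 4 24 0, opS 2 25,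
    opS 1 26, opM 0 27 1, opM 0 28 2, opS 1 28, opD 0, opD 0]),
   (0, [opS 23 126, opS 22 127, opS 21 128, opS 20 129, opS 19 130, opS 18 131, opS 17 132, opS 16 133,
    opS 15 13, opS 14 13, opS 13 134, opS 12 135, opS 11 136, opS 10 130, opS 9 129, opS 8 137,
    opS 7 138, opS 6 139, opS 5 2, opD 4, opS 26 126, opS 25 127, opS 24 128, opS 23 129,
    opS 22 137, opS 21 138, opS 20 139, opS 19 2, opD 18, opS 21 25, opS 20 140, opS 19 26,
    opS 18 26, opS 17 141, opS 16 142, opS 15 3, opD 14, opS 23 25, opS 22 140, opS 21 26,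
    opS 20 141, opS 19 142, opS 18 3, opD 17, opS 21 143, opS 20 144, opS 19 144, opS 18 145,
    opS 17 6, opD 16, opS 15 4, opD 14, opD 14, opS 16 4, opD 15, opD 15,
    opD 14, opD 13, opS 16 126, opS 15 127, opS 14 128, opS 13 129, opS 12 137, opS 11 138,
    opS 10 139, opS 9 2, opD 8, opS 7 25, opS 6 140, opS 5 26, opS 4 26, opS 3 141,
    opS 2 142, opS 1 3, opD 0, opS 9 25, opS 8 140, opS 7 26, opS 6 141, opS 5 142,
    opS 4 3, opD 3, opS 7 143, opS 6 144, opS 5 144, opS 4 145, opS 3 6, opD 2,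
    opS 1 4, opD 0, opD 0, opS 2 4, opD 1, opD 1, opD 0]),
   (0, [opM 1 24 0, opM 4 24 0, opS 2 25, opS 1 26, opM 0 27 1, opM 0 28 2, opS 1 28, opD 0,
    opD 0]),
   (0, [opS 10 143, opS 9 144, opS 8 164, opS 7 165, opS 6 165, opS 5 166, opS 4 6, opD 3,
    opS 11 167, opS 10 168, opS 9 169, opS 8 170, opS 7 171, opS 6 9, opD 5, opM 1 24 0,
    opM 6 24 0, opM 11 24 0, opS 14 167, opS 13 168, opM 12 172 24, opS 13 32, opS 12 173, opS 11 174,
    opS 10 175, opS 9 8, opD 8, opS 10 176, opS 6 177, opS 4 178, opS 0 179, opS 5 180,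
    opS 8 178, opS 1 181, opS 3 182, opM 2 183 25, opS 8 184, opS 7 185, opS 6 186, opS 5 187,
    opS 4 188, opM 3 189 26, opS 6 190, opS 10 150, opS 1 191, opS 9 192, opS 1 193, opS 10 177,
    opS 10 194, opS 9 195, opS 8 196, opS 7 197, opS 6 198, opS 5 199, opS 4 200, opS 3 201,
    opS 2 202, opS 1 24, opM 0 203 27, opS 5 204, opS 8 205, opS 3 206, opS 8 207, opS 7 10,
    opD 6, opS 2 208, opS 6 209, opS 5 200, opS 2 210, opS 6 211, opS 6 212, opS 0 213,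
    opS 1 214, opS 6 24, opS 0 215, opS 2 216, opS 1 217, opS 3 218, opM 2 219 28, opS 4 220,
    opS 4 221, opS 4 222, opS 1 223, opS 4 24, opM 3 179 29, opS 4 224, opS 1 225, opS 1 226,
    opS 3 227, opS 0 228, opS 4 229, opS 5 230, opS 2 231, opS 4 232, opS 0 233, opS 4 234,
    opS 4 235, opS 0 226, opS 3 236, opS 1 237, opS 4 238, opS 2 239, opS 2 240, opS 0 241,
    opS 4 242, opS 3 243, opS 5 244, opS 3 245, opS 4 246, opS 4 247, opS 0 237, opS 4 248,
    opS 0 226, opS 3 249, opS 0 241, opS 3 250, opS 2 251, opM 1 252 30, opS 4 253, opS 4 254,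
    opS 3 255, opS 0 256, opS 0 257, opS 1 258, opS 4 259, opS 0 260, opS 1 261, opS 1 252,
    opS 2 262, opS 0 263, opS 0 264, opS 4 265, opS 3 266, opS 2 267, opS 1 249, opM 0 268 31,
    opS 0 269, opS 0 263, opS 3 270, opS 0 268, opS 2 271, opS 1 272, opS 0 259, opS 0 272,
    opS 3 255, opS 3 261, opS 1 273, opS 2 270, opS 1 274, opS 2 275, opS 2 276, opS 1 277,
    opM 0 278 32, opM 0 279 33, opM 0 255 34, opD 0]),
   (0, [opS 8 280, opS 7 281, opS 6 282, opS 5 11, opD 4, opM 1 24 0, opM 4 24 0, opS 2 25,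
    opS 1 26, opM 0 27 1, opM 0 28 2, opS 1 28, opD 0, opD 0])]

/-- Programs. -/
def progs3 : List (Nat × List Op) :=
  [(0, [opS 8 283, opS 7 284, opS 6 285, opS 5 12, opD 4, opM 1 24 0, opM 4 24 0, opS 2 25,
    opS 1 26, opM 0 27 1, opM 0 28 2, opS 1 28, opD 0, opD 0]),
   (1, [opS 8 29, opS 7 30, opS 6 31, opS 5 0, opD 4, opS 4 32, opS 3 33, opS 2 34,
    opM 1 35 3, opS 7 36, opS 6 37, opS 5 38, opS 4 39, opS 3 40, opM 2 41 4, opS 7 42,
    opS 6 43, opS 5 44, opS 4 45, opS 3 46, opS 2 47, opM 1 48 5, opS 5 78, opS 1 81,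
    opS 7 83, opS 3 82, opS 1 61, opS 7 12, opS 5 286, opS 4 78, opS 0 287, opS 5 286,
    opS 7 1, opS 6 49, opS 4 9, opS 1 93, opM 2 151 21, opS 3 10, opM 2 150 35, opS 5 288,
    opS 0 289, opS 4 290, opS 2 291, opS 1 292, opS 0 293, opS 2 294, opS 4 288, opS 5 295,
    opS 2 150, opS 2 287, opS 5 71, opS 5 61, opS 3 296, opS 4 297, opS 0 298, opS 5 299,
    opS 2 300, opM 1 301 36, opS 4 71, opS 2 302, opS 1 69, opS 1 302, opM 0 303 37, opS 1 304,
    opM 0 305 38, opM 1 70 39, opM 0 299 40, opD 0]),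
   (1, [opD 9, opS 9 306, opS 3 49, opS 5 32, opS 9 17, opS 2 76, opS 10 36, opS 4 33,
    opS 6 50, opS 7 150, opS 2 307, opS 7 82, opS 3 308, opS 8 309, opS 7 310, opS 8 10,
    opS 10 12, opS 7 311, opS 0 32, opS 5 149, opS 9 153, opS 7 312, opM 6 313 41, opM 6 314 42,
    opS 8 315, opS 2 316, opS 0 317, opS 3 49, opS 1 318, opS 8 319, opS 2 320, opS 6 321,
    opS 6 153, opS 0 322, opS 1 323, opS 6 314, opS 4 324, opS 7 325, opS 1 326, opS 7 327,
    opS 5 328, opS 7 329, opS 5 314, opS 3 330, opS 5 307, opS 1 331, opS 0 332, opS 0 333,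
    opS 5 328, opS 8 334, opS 3 335, opS 0 336, opS 1 337, opS 3 338, opS 2 339, opS 6 340,
    opS 6 341, opS 2 342, opS 1 343, opS 0 344, opS 5 345, opS 6 346, opS 6 347, opS 8 348,
    opS 8 349, opS 6 350, opS 5 351, opS 4 352, opS 2 353, opS 0 354, opS 7 355, opS 7 356,
    opS 6 357, opM 5 358 43, opS 2 359, opS 4 360, opS 3 361, opS 6 362, opS 1 363, opS 4 364,
    opS 5 365, opS 1 366, opS 0 367, opS 1 368, opS 1 369, opS 1 370, opS 0 371, opS 7 372,
    opS 6 373, opS 5 374, opS 5 375, opS 2 376, opS 3 377, opS 3 378, opS 5 379, opS 2 380,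
    opS 7 381, opS 4 382, opS 7 383, opS 4 379, opM 3 384 44, opS 1 385, opS 5 386, opS 1 387,
    opS 3 388, opS 0 389, opS 5 390, opS 4 391, opS 0 392, opS 3 393, opS 6 394, opS 5 395,
    opM 4 396 45, opS 5 397, opS 5 398, opS 1 399, opS 4 400, opS 0 401, opS 4 402, opS 3 403,
    opS 2 404, opS 2 405, opM 1 406 46, opS 0 407, opS 4 408, opS 1 409, opS 1 410, opS 4 411,
    opM 3 412 47, opS 1 404, opS 0 413, opS 1 414, opS 1 415, opS 3 416, opM 2 417 48, opS 1 418,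
    opM 0 419 49, opM 0 412 50, opD 0]),
   (1, [opS 8 146, opS 7 147, opS 6 148, opS 5 2, opD 4, opS 4 32, opS 3 33, opS 2 34,
    opM 1 35 3, opS 7 36, opS 6 37, opS 5 38, opS 4 39, opS 3 40, opM 2 41 4, opS 7 42,
    opS 6 43, opS 5 44, opS 4 45, opS 3 46, opS 2 47, opM 1 48 5, opS 7 83, opS 0 53,
    opS 4 50, opS 5 150, opS 3 149, opM 4 151 19, opM 4 82 20, opS 4 154, opS 3 420, opS 4 171,
    opS 2 421, opS 2 422, opS 2 423, opS 1 424, opS 0 425, opS 0 426, opS 2 427, opS 4 82,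
    opM 3 151 21, opS 1 428, opS 3 291, opS 1 429, opS 2 430, opS 2 431, opS 1 432, opM 0 433 51,
    opS 2 434, opS 0 435, opS 3 436, opS 2 437, opM 1 438 52, opS 1 151, opM 0 439 53, opM 0 430 54,
    opD 0]),
   (0, [opS 8 32, opS 7 440, opS 6 441, opS 5 442, opS 4 443, opS 3 444, opS 2 8, opD 1,
    opS 15 167, opS 14 168, opS 13 168, opS 12 169, opS 11 170, opS 10 171, opS 9 9, opD 8,
    opS 18 143, opS 17 144, opS 16 164, opS 15 165, opS 14 166, opS 13 6, opD 12, opM 4 24 0,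
    opM 9 24 0, opM 14 24 0, opS 4 144, opS 3 164, opS 2 165, opM 1 185 55, opS 9 32, opS 11 178,
    opS 0 445, opS 8 446, opS 1 150, opS 1 82, opS 4 177, opS 8 447, opS 12 448, opS 2 449,
    opS 5 207, opS 1 450, opS 3 451, opM 2 452 56, opS 4 453, opS 3 454, opM 2 195 57, opM 2 455 58,
    opS 2 197, opS 0 456, opS 0 450, opS 2 151, opS 1 457, opS 9 458, opS 1 459, opS 9 453,
    opM 2 460 59, opS 3 461, opS 1 462, opS 2 463, opS 4 464, opS 1 465, opS 5 181, opS 4 466,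
    opS 3 467, opM 2 468 60, opM 5 469 61, opS 5 470, opS 0 471, opS 0 472, opS 6 473, opS 5 474,
    opS 4 475, opS 3 476, opS 2 477, opM 1 478 62, opS 3 479, opS 1 480, opS 3 481, opS 2 482,
    opS 3 483, opS 4 484, opS 5 485, opS 5 486, opS 4 487, opS 3 488, opS 2 489, opM 1 490 63,
    opS 3 491, opS 2 492, opS 3 493, opS 2 494, opS 1 495, opM 0 496 64, opS 1 497, opM 0 498 65,
    opS 0 482, opS 2 498, opD 1, opD 0]),
   (1, [opS 4 32, opS 3 33, opS 2 34, opM 1 35 3, opS 7 36, opS 6 37, opS 5 38, opS 4 39,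
    opS 3 40, opM 2 41 4, opS 7 42, opS 6 43, opS 5 44, opS 4 45, opS 3 46, opS 2 47,
    opM 1 48 5, opS 5 78, opS 1 81, opS 6 88, opS 4 79, opS 4 499, opS 3 35, opM 2 47 13,
    opS 6 500, opS 5 84, opS 4 501, opS 3 86, opM 2 87 14, opS 1 502, opS 0 503, opS 4 504,
    opS 1 93, opS 0 505, opS 5 506, opS 5 507, opS 4 508, opS 3 509, opS 2 510, opM 1 511 66,
    opS 3 512, opS 2 513, opS 1 514, opM 0 515 67, opS 3 516, opM 2 515 68, opS 2 511, opD 1,
    opD 0]),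
   (1, [opS 8 517, opS 7 518, opS 6 519, opS 5 11, opD 4, opS 4 32, opS 3 33, opS 2 34,
    opM 1 35 3, opS 7 36, opS 6 37, opS 5 38, opS 4 39, opS 3 40, opM 2 41 4, opS 7 42,
    opS 6 43, opS 5 44, opS 4 45, opS 3 46, opS 2 47, opM 1 48 5, opS 7 83, opS 1 81,
    opS 4 50, opS 7 12, opS 2 520, opS 3 521, opS 2 522, opS 5 150, opS 4 523, opM 3 524 69,
    opS 4 525, opM 3 158 70, opS 3 526, opS 1 527, opM 4 528 71, opS 0 293, opS 4 529, opS 2 530,
    opS 2 531, opM 1 532 72, opM 0 533 73, opM 1 534 74, opM 0 528 75, opD 0]),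
   (1, [opS 12 535, opS 11 83, opS 10 12, opD 9, opS 7 78, opS 4 536, opS 7 286, opS 5 537,
    opS 6 538, opS 7 539, opS 5 540, opS 2 78, opS 10 306, opS 3 541, opS 5 542, opS 3 543,
    opS 9 535, opS 8 17, opS 7 544, opS 6 545, opS 5 546, opM 4 547 76, opS 1 548, opS 3 549,
    opS 2 550, opS 1 551, opS 5 552, opS 7 553, opS 4 554, opS 0 555, opS 1 556, opS 4 557,
    opS 9 36, opS 6 558, opS 9 16, opS 8 559, opS 7 560, opS 6 561, opS 5 562, opS 4 563,
    opS 3 564, opM 2 565 77, opS 8 566, opS 2 567, opS 5 568, opS 2 569, opS 5 558, opS 5 554,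
    opS 2 570, opS 3 571, opS 1 572, opS 3 557, opS 2 573, opS 1 574, opM 0 575 78, opS 0 576,
    opS 3 577, opS 1 578, opS 0 579, opS 0 580, opS 1 581, opS 4 582, opS 3 583, opS 2 584,
    opS 1 306, opM 0 585 79, opS 3 586, opS 5 587, opS 3 588, opS 5 589, opS 2 590, opS 5 566,
    opS 1 591, opS 0 592, opS 1 593, opS 5 542, opS 1 594, opS 5 587, opS 2 595, opS 2 596,
    opS 1 597, opM 0 598 80, opS 4 589, opS 3 599, opS 2 600, opM 1 601 81, opS 4 602, opS 1 603,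
    opS 2 604, opS 1 605, opS 2 606, opS 4 607, opS 0 608, opS 0 609, opS 2 610, opS 3 611,
    opS 2 612, opS 3 262, opS 3 595, opS 3 601, opS 2 613, opM 1 614 82, opS 2 615, opS 1 616,
    opM 0 617 83, opS 2 618, opM 1 619 84, opM 0 612 85, opD 0]),
   (0, [opS 1 11, opD 0, opD 0])]

/-- Programs. -/
def progs4 : List (Nat × List Op) :=
  [(0, [opS 2 125, opS 1 11, opD 0, opD 1, opD 0]),
   (0, [opS 1 11, opD 0, opD 0]),
   (0, [opS 4 280, opS 3 281, opS 2 282, opS 1 11, opD 0, opM 1 24 0, opM 4 24 0, opS 2 25,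
    opS 1 26, opM 0 27 1, opM 0 28 2, opS 1 28, opD 0, opD 0]),
   (1, [opS 4 517, opS 3 518, opS 2 519, opS 1 11, opD 0, opS 4 32, opS 3 33, opS 2 34,
    opM 1 35 3, opS 7 36, opS 6 37, opS 5 38, opS 4 39, opS 3 40, opM 2 41 4, opS 7 42,
    opS 6 43, opS 5 44, opS 4 45, opS 3 46, opS 2 47, opM 1 48 5, opS 3 82, opS 4 171,
    opS 4 286, opS 5 286, opD 4, opS 3 149, opS 2 152, opS 0 53, opS 2 159, opS 4 113,
    opM 3 162 23, opS 0 620, opS 2 621, opS 0 622, opS 4 153, opS 4 623, opS 2 624, opS 3 625,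
    opS 0 525, opS 0 48, opS 2 158, opM 1 524 86, opS 1 626, opM 0 627 87, opM 1 628 88, opM 0 153 89,
    opD 0]),
   (0, [opD 0]),
   (0, [opS 3 629, opS 2 629, opS 1 11, opD 0, opD 2, opD 1, opD 0]),
   (0, [opS 1 12, opD 0, opD 0]),
   (0, [opS 2 83, opS 1 12, opD 0, opD 1, opD 0]),
   (0, [opS 1 12, opD 0, opD 0])]

/-- Programs. -/
def progs5 : List (Nat × List Op) :=
  [(0, [opS 4 283, opS 3 284, opS 2 285, opS 1 12, opD 0, opM 1 24 0, opM 4 24 0, opS 2 25,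
    opS 1 26, opM 0 27 1, opM 0 28 2, opS 1 28, opD 0, opD 0]),
   (1, [opS 4 288, opS 3 630, opS 2 631, opS 1 12, opD 0, opS 4 32, opS 3 33, opS 2 34,
    opM 1 35 3, opS 7 36, opS 6 37, opS 5 38, opS 4 39, opS 3 40, opM 2 41 4, opS 7 42,
    opS 6 43, opS 5 44, opS 4 45, opS 3 46, opS 2 47, opM 1 48 5, opS 6 49, opS 1 81,
    opS 3 82, opS 4 171, opS 5 1, opD 6, opS 0 93, opS 1 53, opM 2 151 21, opS 4 83,
    opS 3 632, opS 1 633, opS 4 634, opS 4 635, opS 3 636, opM 2 637 90, opS 2 638, opS 2 632,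
    opS 1 639, opM 0 638 91, opS 2 633, opD 1, opD 0]),
   (0, [opS 3 640, opS 2 640, opS 1 12, opD 0, opD 2, opD 1, opD 0]),
   (0, [opD 0]),
   (0, [opM 2 24 0, opM 6 24 0, opM 10 24 0, opM 14 24 0, opS 3 126, opS 2 128, opS 1 129, opM 0 130 92,
    opS 10 126, opS 9 128, opS 8 129, opS 7 130, opS 6 131, opS 5 133, opS 4 13, opS 3 134,
    opS 2 136, opS 1 130, opD 0, opS 12 126, opS 11 128, opS 10 129, opS 9 137, opS 8 139,
    opS 7 2, opD 6, opS 5 25, opS 4 26, opS 3 26, opS 2 141, opS 1 3, opD 0,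
    opS 6 25, opS 5 26, opS 4 141, opS 3 3, opD 2, opS 3 28, opS 2 28, opS 1 24,
    opD 0, opD 2, opD 1, opD 0]),
   (0, [opM 0 640 93, opS 1 640, opD 0, opD 0]),
   (0, [opM 2 641 94, opM 2 642 95, opS 10 18, opS 9 643, opS 8 644, opS 7 645, opS 6 646, opS 5 647,
    opS 4 648, opS 3 642, opD 2, opD 1, opS 2 0, opS 1 0, opD 0, opS 5 2,
    opS 4 2, opD 3, opS 4 11, opD 3, opD 3, opD 2, opS 1 2, opD 0,
    opD 0]),
   (2, [opD 14, opS 15 36, opS 14 83, opS 13 649, opS 12 650, opS 11 651, opS 10 53, opS 9 652,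
    opS 8 18, opS 7 643, opS 6 653, opS 5 654, opS 4 655, opS 3 656, opS 2 125, opS 1 1,
    opD 0, opS 13 306, opS 12 657, opM 11 658 96, opS 12 659, opS 11 643, opS 10 649, opS 9 83,
    opS 8 12, opD 7, opS 7 125, opS 6 1, opD 5, opS 7 660, opS 6 640, opS 5 12,
    opD 4, opD 3, opD 2, opD 1, opD 0])]

/-- A part of the long program. -/
def long0 : List Op :=
  [opS 58 49, opS 57 76, opS 56 77, opS 55 1, opS 54 73, opS 53 74, opS 52 75, opS 51 1,
    opS 50 72, opS 49 661, opS 48 662, opS 47 663, opS 46 664, opS 45 665, opS 44 666, opS 43 667,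
    opS 42 668, opS 41 669, opS 40 670, opS 39 671, opS 38 672, opS 37 673, opS 36 674, opS 35 675,
    opS 34 676, opS 33 677, opS 32 678, opS 31 679, opS 30 680, opS 29 681, opS 28 18, opS 27 682,
    opS 26 683, opS 25 684, opS 24 18, opS 23 681, opS 22 685, opS 21 686, opS 20 687, opS 19 688,
    opS 18 676, opS 17 675, opS 16 689, opS 15 690, opS 14 691, opS 13 671, opS 12 670, opS 11 692,
    opS 10 693, opS 9 694, opS 8 695, opS 7 665, opS 6 664, opS 5 696, opS 4 697, opS 3 698,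
    opS 2 72, opS 1 1, opD 0, opS 89 73, opS 88 74, opS 87 75, opS 86 1, opS 85 72,
    opS 84 661, opS 83 662, opS 82 663, opS 81 664, opS 80 665, opS 79 666, opS 78 667, opS 77 668,
    opS 76 669, opS 75 670, opS 74 671, opS 73 672, opS 72 673, opS 71 674, opS 70 675, opS 69 676,
    opS 68 677, opS 67 678, opS 66 679, opS 65 680, opS 64 681, opS 63 18, opS 62 682, opS 61 683,
    opS 60 684, opS 59 18]

/-- A part of the long program. -/
def long1 : List Op :=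
  [opS 58 681, opS 57 699, opS 56 700, opS 55 701, opS 54 681, opS 53 702, opS 52 703, opS 51 704,
    opS 50 677, opS 49 692, opS 48 693, opS 47 694, opS 46 695, opS 45 665, opS 44 664, opS 43 129,
    opS 42 137, opS 41 138, opS 40 139, opS 39 2, opD 38, opS 42 72, opS 41 661, opS 40 662,
    opS 39 663, opS 38 664, opS 37 696, opS 36 697, opS 35 698, opS 34 72, opS 33 1, opD 32,
    opS 150 126, opS 149 127, opS 148 128, opS 147 129, opS 146 130, opS 145 705, opS 144 706, opS 143 707,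
    opS 142 708, opS 141 709, opS 140 710, opS 139 711, opS 138 712, opS 137 713, opS 136 714, opS 135 715,
    opS 134 716, opS 133 717, opS 132 718, opS 131 719, opS 130 720, opS 129 721, opS 128 722, opS 127 723,
    opS 126 724, opS 125 725, opS 124 726, opS 123 727, opS 122 728, opS 121 729, opS 120 730, opS 119 731,
    opS 118 732, opS 117 733, opS 116 734, opS 115 735, opS 114 736, opS 113 685, opS 112 681, opS 111 699,
    opS 110 700, opS 109 701, opS 108 681, opS 107 702, opS 106 703, opS 105 704, opS 104 677, opS 103 692,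
    opS 102 693, opS 101 694, opS 100 695, opS 99 665, opS 98 664, opS 97 129, opS 96 137, opS 95 138,
    opS 94 139, opS 93 2]

/-- A part of the long program. -/
def long2 : List Op :=
  [opD 92, opS 154 72, opS 153 661, opS 152 662, opS 151 663, opS 150 664, opS 149 696, opS 148 697,
    opS 147 698, opS 146 72, opS 145 1, opD 144, opM 2 24 0, opM 6 24 0, opM 11 24 0, opM 15 24 0,
    opM 20 24 0, opM 24 24 0, opM 28 24 0, opM 31 24 0, opM 35 24 0, opM 39 24 0, opM 47 24 0, opM 51 24 0,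
    opM 56 24 0, opM 60 24 0, opM 65 24 0, opM 69 24 0, opM 73 24 0, opM 76 24 0, opM 81 24 0, opM 85 24 0,
    opM 94 24 0, opM 98 24 0, opM 103 24 0, opM 107 24 0, opM 112 24 0, opM 116 24 0, opM 120 24 0, opM 123 24 0,
    opM 127 24 0, opM 131 24 0, opS 29 25, opS 28 26, opM 27 27 1, opM 27 28 2, opS 28 28, opD 27,
    opD 27, opS 36 167, opS 35 168, opM 34 172 24, opS 67 25, opS 66 26, opM 65 27 1, opM 65 28 2,
    opS 66 28, opD 65, opD 65, opS 75 167, opS 74 168, opM 73 172 24, opS 107 25, opS 106 26,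
    opM 105 27 1, opM 105 28 2, opS 106 28, opD 105, opD 105, opS 114 167, opS 113 168, opM 112 172 24,
    opS 40 144, opS 39 164, opS 38 737, opM 37 738 97, opS 42 179, opS 41 739, opS 40 740, opS 39 741,
    opM 38 742 98, opS 25 126, opS 24 128, opS 23 129, opS 22 130, opS 21 131, opS 20 133, opS 19 13,
    opM 18 0 99, opS 21 126]

/-- A part of the long program. -/
def long3 : List Op :=
  [opS 20 128, opS 19 129, opM 18 130 92, opS 21 25, opS 20 26, opM 19 27 1, opM 19 28 2, opS 20 28,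
    opD 19, opD 19, opS 53 126, opS 52 128, opS 51 129, opS 50 130, opS 49 131, opS 48 133,
    opS 47 13, opM 46 0 99, opS 49 126, opS 48 128, opS 47 129, opM 46 130 92, opS 49 25, opS 48 26,
    opM 47 27 1, opM 47 28 2, opS 48 28, opD 47, opD 47, opS 85 126, opS 84 128, opS 83 129,
    opS 82 130, opS 81 131, opS 80 133, opS 79 13, opM 78 0 99, opS 81 126, opS 80 128, opS 79 129,
    opM 78 130 92, opS 81 25, opS 80 26, opM 79 27 1, opM 79 28 2, opS 80 28, opD 79, opD 79,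
    opS 19 743, opS 18 744, opS 17 745, opS 16 746, opS 15 747, opS 14 315, opS 13 748, opS 12 749,
    opS 11 750, opS 10 751, opM 9 752 100, opS 78 743, opS 77 744, opS 76 745, opS 75 746, opS 74 747,
    opS 73 315, opS 72 748, opS 71 749, opS 70 750, opS 69 751, opM 68 752 100, opS 78 753, opS 10 179,
    opS 76 705, opS 20 144, opS 17 705, opS 33 754, opD 18, opS 44 72, opS 37 126, opS 40 144,
    opS 39 164, opM 38 203 101, opM 38 141 102, opS 26 755, opS 45 144, opS 79 176, opS 39 756, opS 32 75,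
    opS 26 757, opS 51 32]

/-- A part of the long program. -/
def long4 : List Op :=
  [opS 74 758, opS 81 32, opS 74 759, opM 73 760 103, opM 73 24 104, opS 55 761, opS 13 761, opS 58 126,
    opS 61 144, opS 60 164, opM 59 203 101, opM 59 141 102, opS 61 762, opS 69 706, opS 68 708, opS 67 709,
    opS 66 710, opS 65 711, opS 64 713, opS 63 714, opM 62 763 105, opS 69 28, opM 68 27 106, opD 69,
    opM 67 26 107, opS 67 764, opS 66 765, opS 65 766, opS 64 767, opM 63 768 108, opM 67 27 109, opS 65 126,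
    opS 64 128, opM 63 769 110, opM 65 144 111, opM 65 170 112, opS 62 770, opM 61 72 113, opS 61 771, opS 60 772,
    opS 59 773, opS 58 774, opS 57 726, opS 56 725, opM 55 775 114, opS 60 776, opS 59 696, opS 58 777,
    opS 57 778, opS 56 779, opS 55 780, opM 54 710 115, opD 60, opS 61 446, opS 60 781, opS 59 782,
    opS 58 783, opS 57 784, opS 56 785, opS 55 786, opS 54 787, opS 53 788, opS 52 789, opM 51 790 116,
    opS 13 791, opS 13 139, opS 12 792, opS 11 793, opS 10 794, opS 9 795, opS 8 796, opS 7 797,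
    opS 6 798, opS 5 799, opS 4 800, opM 3 801 117, opS 8 762, opS 22 802, opS 47 179, opS 16 803,
    opS 49 804, opS 47 141, opS 46 805, opS 45 806, opS 44 807, opM 43 808 118, opS 38 759, opS 9 809,
    opS 10 743, opS 4 761]

/-- A part of the long program. -/
def long5 : List Op :=
  [opS 49 802, opS 44 28, opS 23 810, opS 35 128, opS 2 811, opS 14 144, opS 13 812, opS 12 813,
    opS 11 814, opS 10 815, opS 9 816, opS 8 817, opS 7 818, opS 6 819, opS 5 820, opS 4 821,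
    opM 3 822 119, opS 6 144, opS 32 761, opS 26 179, opS 27 139, opS 21 173, opS 33 823, opS 33 824,
    opS 32 825, opS 31 826, opS 30 827, opM 29 828 120, opS 56 829, opS 22 82, opS 24 830, opS 56 179,
    opS 55 24, opS 54 831, opM 53 832 121, opM 53 128 122, opS 0 761, opS 16 833, opS 52 823, opS 31 791,
    opS 38 665, opS 1 834, opS 9 835, opS 8 836, opS 7 837, opS 6 838, opS 5 839, opS 4 840,
    opS 3 841, opM 2 842 123, opS 9 843, opS 8 844, opS 7 845, opS 6 846, opS 5 847, opS 4 848,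
    opM 3 849 124, opS 16 761, opS 15 850, opS 14 851, opS 13 852, opS 12 853, opS 11 854, opS 10 855,
    opM 9 856 125, opS 16 857, opS 15 858, opM 14 859 126, opS 15 666, opM 14 860 127, opS 27 861, opS 49 862,
    opS 29 3, opD 28, opS 29 758, opM 28 760 128, opM 28 1 129, opS 46 863, opS 25 864, opS 36 865,
    opS 33 6, opS 20 866, opS 33 24, opS 0 867, opS 33 144, opS 32 868, opS 31 869, opS 30 870,
    opS 29 871, opS 28 872]

/-- A part of the long program. -/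
def long6 : List Op :=
  [opS 27 873, opS 26 874, opS 25 875, opM 24 876 130, opS 27 877, opS 26 878, opS 25 879, opM 24 880 131,
    opS 25 791, opS 24 881, opS 23 882, opS 22 883, opS 21 884, opS 20 885, opS 19 886, opS 18 887,
    opS 17 888, opM 16 889 132, opS 26 890, opS 19 891, opS 15 892, opS 5 893, opS 34 894, opS 1 895,
    opS 44 896, opS 11 897, opS 3 898, opS 34 899, opS 3 761, opD 2, opS 11 900, opS 5 901,
    opS 0 902, opS 3 903, opS 1 904, opS 24 905, opS 11 906, opS 19 907, opS 40 908, opS 5 909,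
    opS 2 910, opS 6 911, opS 5 912, opS 4 913, opM 3 914 133, opS 0 915, opS 25 677, opS 14 301,
    opS 28 916, opS 23 917, opS 19 918, opS 12 889, opS 16 919, opS 26 920, opS 3 921, opS 26 922,
    opS 25 923, opS 24 924, opS 23 925, opS 22 926, opS 21 927, opS 20 928, opM 19 929 134, opS 33 930,
    opS 32 931, opS 31 932, opS 30 933, opS 29 934, opS 28 935, opS 27 936, opS 26 937, opM 25 938 135,
    opS 10 939, opS 22 940, opS 6 941, opS 36 942, opS 17 943, opS 9 944, opS 19 945, opS 9 946,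
    opS 23 947, opS 3 893, opS 6 948, opS 17 949, opS 11 950, opS 28 951, opS 12 952, opS 28 953,
    opS 20 954, opS 19 955]

/-- A part of the long program. -/
def long7 : List Op :=
  [opS 18 956, opS 17 957, opS 16 958, opS 15 959, opS 14 960, opM 13 961 136, opS 37 962, opS 32 963,
    opS 6 964, opS 11 965, opS 33 966, opS 28 967, opS 28 968, opS 27 969, opS 26 970, opS 25 971,
    opS 24 972, opS 23 973, opS 22 974, opS 21 975, opS 20 976, opS 19 977, opM 18 978 137, opS 18 979,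
    opS 17 980, opS 16 981, opS 15 982, opS 14 983, opS 13 984, opS 12 985, opS 11 986, opS 10 987,
    opM 9 988 138, opS 31 989, opS 22 990, opS 15 991, opS 15 992, opS 5 993, opS 33 994, opS 21 995,
    opS 10 996, opS 31 997, opS 14 998, opS 18 999, opS 8 1000, opS 0 1001, opS 11 1002, opS 2 1003,
    opS 9 1004, opS 26 1005, opS 9 1006, opS 1 1007, opS 30 1008, opS 21 1009, opS 4 1010, opS 9 996,
    opS 33 1011, opS 4 1012, opS 32 1013, opS 30 1014, opS 8 1015, opS 27 1016, opS 12 1017, opS 7 1018,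
    opS 7 1019, opS 6 1020, opM 5 1021 139, opS 16 1022, opS 22 1023, opS 34 1024, opS 17 1025, opS 14 1026,
    opS 0 1027, opS 14 1028, opS 13 1029, opS 12 1030, opS 11 1031, opS 10 1032, opS 9 1033, opM 8 1034 140,
    opS 20 1035, opS 19 1036, opS 18 1037, opS 17 1038, opS 16 1039, opS 15 1040, opS 14 1041, opS 13 1042,
    opS 12 1043, opS 11 1044]

/-- A part of the long program. -/
def long8 : List Op :=
  [opS 10 1045, opM 9 1046 141, opS 11 1047, opS 10 1048, opS 9 1049, opS 8 1050, opS 7 1051, opS 6 1052,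
    opS 5 1053, opS 4 1054, opS 3 1055, opS 2 1056, opS 1 1057, opM 0 1058 142, opS 24 1059, opS 32 1060,
    opS 15 1061, opS 23 1062, opS 15 1063, opS 30 1064, opS 16 1065, opS 30 1066, opS 29 1067, opS 28 1068,
    opS 27 1069, opS 26 1070, opS 25 1071, opS 24 1072, opS 23 1073, opS 22 1074, opM 21 1075 143, opS 7 1076,
    opS 19 1077, opS 18 1078, opS 17 1079, opS 16 1080, opS 15 1081, opS 14 1082, opS 13 1083, opS 12 1084,
    opS 11 1085, opS 10 1086, opS 9 1087, opM 8 1088 144, opS 20 1089, opS 3 1090, opS 23 1091, opS 30 1092,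
    opS 15 1093, opS 22 395, opS 21 1094, opS 28 1095, opS 28 1096, opS 27 1097, opS 26 1098, opS 25 1099,
    opS 24 1100, opS 23 1101, opS 22 1102, opS 21 1103, opS 20 1104, opS 19 1105, opS 18 1106, opM 17 1107 145,
    opS 17 1108, opS 16 1109, opS 15 1110, opS 14 1111, opS 13 1112, opS 12 1113, opM 11 1114 146, opS 17 1115,
    opS 16 1116, opS 15 61, opS 14 1117, opS 13 1118, opS 12 1119, opS 11 1120, opS 10 1121, opS 9 1122,
    opS 8 1123, opS 7 1124, opM 6 1125 147, opS 14 1126, opS 1 1127, opS 14 1128, opS 8 1129, opS 6 1130,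
    opS 27 1131, opS 5 1132]

/-- A part of the long program. -/
def long9 : List Op :=
  [opS 6 1133, opS 6 1134, opS 10 1135, opS 14 1136, opS 3 1012, opS 26 1137, opS 26 1138, opS 7 1139,
    opS 16 1140, opS 19 1141, opS 13 1142, opS 13 1143, opS 12 1144, opS 11 1145, opS 10 1146, opS 9 1147,
    opS 8 1148, opS 7 1149, opS 6 1150, opS 5 1151, opS 4 1152, opM 3 1153 148, opS 8 1154, opS 23 1155,
    opS 10 1156, opS 10 1157, opS 21 1158, opS 8 1159, opS 12 1160, opS 5 1161, opS 4 1162, opS 13 1163,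
    opS 22 1164, opS 0 1165, opM 23 1166 149, opS 22 1167, opS 21 1168, opS 20 1169, opS 19 1170, opS 18 1171,
    opS 17 1172, opS 16 1173, opM 15 1174 150, opS 10 1175, opS 10 1114, opS 7 1176, opS 15 1177, opS 17 1178,
    opS 10 1002, opS 0 1179, opS 1 1180, opS 0 1181, opS 5 1182, opS 4 1183, opS 3 1184, opM 2 1185 151,
    opS 20 1186, opS 19 1187, opS 12 1188, opS 12 1189, opS 1 1190, opS 11 1191, opS 14 1192, opS 7 1193,
    opS 15 1194, opS 1 1195, opS 9 1135, opS 22 1196, opS 11 1197, opS 9 1156, opS 19 1198, opS 10 1199,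
    opS 6 1200, opS 23 1201, opS 5 1202, opS 0 1203, opS 11 1204, opS 9 1205, opS 5 1206, opS 13 1207,
    opS 22 1208, opS 16 1209, opS 16 1210, opS 1 1211, opS 2 1212, opS 20 1213, opS 6 1214, opS 11 1191,
    opS 6 1176, opS 17 524]

/-- A part of the long program. -/
def long10 : List Op :=
  [opS 23 1215, opS 4 1216, opS 1 1217, opS 13 1218, opS 12 1219, opS 11 1220, opS 10 1221, opS 9 1222,
    opS 8 1223, opS 7 1224, opS 6 1225, opS 5 1226, opS 4 1227, opS 3 101, opM 2 1228 152, opS 5 1229,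
    opS 4 1230, opS 17 1231, opS 17 1232, opS 16 1233, opS 15 1234, opS 14 1235, opS 13 1236, opS 12 1237,
    opS 11 1238, opS 10 1239, opS 9 1240, opS 8 1241, opS 7 1242, opM 6 1243 153, opS 21 1131, opS 9 1244,
    opS 17 1245, opS 16 1246, opS 15 1247, opS 14 1248, opS 13 1249, opS 12 1250, opS 11 1251, opM 10 1252 154,
    opS 10 1253, opS 2 1254, opS 8 1255, opS 18 1256, opS 20 1095, opS 8 1257, opS 6 1258, opS 10 1259,
    opS 0 1260, opS 6 1261, opS 4 1262, opS 6 1263, opS 19 1264, opS 9 1265, opS 16 1266, opS 19 1267,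
    opS 2 1268, opS 8 1269, opS 12 1270, opS 11 1271, opS 10 1272, opM 9 1273 155, opM 12 1274 156, opS 12 1275,
    opS 14 1276, opS 13 1277, opS 8 1278, opS 0 1279, opS 10 1280, opM 9 1281 157, opS 9 1282, opS 8 1283,
    opS 7 1284, opM 6 1285 158, opS 0 1286, opS 4 1287, opS 14 1288, opS 11 1289, opS 3 1290, opS 12 1291,
    opS 1 1292, opS 9 1293, opS 2 1294, opS 1 1295, opS 3 1296, opS 10 1297, opS 7 1298, opS 4 1299,
    opS 10 1289, opS 9 1300]

/-- A part of the long program. -/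
def long11 : List Op :=
  [opS 8 1301, opS 7 1302, opS 6 1303, opS 5 1304, opS 4 1305, opS 3 1306, opS 2 1307, opM 1 1308 159,
    opS 0 1309, opS 5 1310, opS 2 1311, opS 8 1312, opS 8 1313, opS 4 1314, opS 1 1315, opS 1 1316,
    opS 15 1317, opS 9 1318, opS 6 1319, opS 11 1320, opS 8 1321, opS 0 1322, opS 2 1323, opS 5 1324,
    opS 1 1325, opS 6 1326, opS 10 1327, opS 7 1328, opS 9 1329, opS 13 1330, opS 13 1331, opS 13 1332,
    opS 8 1333, opS 11 1334, opS 13 1267, opS 8 1335, opM 12 1336 160, opS 14 1337, opS 0 1338, opS 14 1339,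
    opS 4 1340, opS 4 1341, opS 10 1342, opS 11 1343, opS 14 1344, opS 12 1345, opS 10 1346, opS 13 1347,
    opS 2 1348, opM 3 1349 161, opS 1 1350, opS 10 1351, opS 0 1352, opS 13 1353, opS 9 1354, opS 2 1355,
    opS 5 1356, opS 6 1357, opS 4 1358, opS 4 1359, opS 5 1360, opS 10 1361, opS 13 1362, opS 3 1363,
    opS 11 1364, opS 2 1365, opS 8 1366, opS 8 1367, opS 7 1368, opS 6 1369, opS 5 1370, opS 4 1371,
    opS 3 1372, opS 2 1373, opM 1 1374 162, opS 2 1375, opS 3 1376, opS 6 1377, opS 5 1378, opS 12 1379,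
    opS 5 1377, opS 4 1380, opM 3 1381 163, opS 11 1382, opS 6 1383, opS 1 1384, opS 9 1385, opS 8 1386,
    opS 4 1387, opS 6 1388]

/-- A part of the long program. -/
def long12 : List Op :=
  [opS 8 1389, opS 1 1390, opS 1 1391, opS 8 1385, opS 2 1392, opS 9 1393, opS 2 1394, opS 7 1395,
    opS 6 1396, opS 5 1397, opS 4 1398, opM 3 1399 164, opS 9 1400, opS 10 1401, opS 2 1402, opS 5 1403,
    opS 7 1404, opS 10 1405, opS 10 1406, opS 9 1407, opS 8 1408, opS 7 1409, opS 6 1410, opS 5 1411,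
    opS 4 1412, opM 3 1413 165, opS 2 1414, opS 5 1415, opS 5 1416, opS 5 1388, opS 4 1417, opS 3 1418,
    opS 2 1419, opM 1 1420 166, opS 5 1421, opS 2 1422, opS 8 1423, opS 6 1424, opS 4 1425, opS 1 1426,
    opS 4 1427, opS 3 1428, opS 1 1422, opS 7 1429, opS 1 1420, opS 2 1430, opS 4 1431, opS 5 1432,
    opS 2 1433, opS 2 1434, opS 7 1435, opS 3 1436, opS 0 1437, opS 2 1438, opS 2 1439, opS 6 1440,
    opS 8 1441, opS 3 1442, opS 6 1443, opS 3 1444, opS 1 1445, opS 6 1446, opS 7 1447, opS 1 1448,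
    opS 3 1449, opS 2 1450, opS 5 1451, opS 3 1452, opS 2 1453, opS 1 1454, opS 8 1455, opS 4 1456,
    opS 1 1457, opS 6 1458, opS 1 1459, opS 5 1460, opS 6 1461, opS 3 1462, opS 6 1463, opS 5 1464,
    opS 5 1465, opS 3 1466, opS 4 1467, opS 5 1468, opS 0 1469, opS 7 1470, opS 5 1471, opS 6 1470,
    opM 6 1472 167, opS 3 1473]

/-- A part of the long program. -/
def long13 : List Op :=
  [opS 7 1474, opS 1 1475, opS 2 1476, opS 5 1477, opS 6 1478, opS 5 1479, opS 2 1480, opS 3 1481,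
    opS 2 1482, opS 0 1483, opS 0 1484, opS 0 1485, opS 5 1486, opS 5 1487, opS 7 1488, opS 5 1478,
    opS 4 1489, opS 3 1490, opM 2 1491 168, opS 5 1492, opS 6 1493, opS 5 1494, opS 0 1495, opS 1 1496,
    opS 2 1497, opS 6 1498, opS 4 1499, opS 0 1500, opS 3 1501, opS 1 1502, opS 2 1503, opS 4 1504,
    opS 1 1505, opS 2 1506, opS 2 1507, opS 5 1508, opS 4 1509, opS 1 1510, opS 2 1511, opS 6 1512,
    opS 0 1513, opS 5 1514, opS 0 1515, opS 1 1516, opS 4 1517, opS 6 1476, opS 6 1485, opS 0 1518,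
    opS 0 1519, opS 1 1520, opS 6 1504, opS 6 1476, opS 5 1521, opS 5 1522, opS 5 1523, opS 2 1524,
    opS 6 1525, opS 2 1526, opS 0 1527, opS 2 1528, opS 2 1529, opS 0 1530, opS 1 1531, opS 3 1532,
    opS 3 1533, opS 4 1534, opS 3 1535, opS 6 1536, opS 0 1537, opS 0 1538, opS 0 1539, opS 5 1540,
    opS 4 1541, opS 5 1542, opS 2 1543, opS 2 1535, opS 3 1544, opS 4 1545, opS 1 1546, opS 5 1547,
    opS 0 1548, opS 2 1549, opS 0 1550, opS 2 1551, opS 1 1552, opS 6 1553, opS 6 1554, opS 4 1555,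
    opS 0 1556, opS 6 1557]

/-- A part of the long program. -/
def long14 : List Op :=
  [opS 5 1558, opS 5 1559, opS 6 1560, opS 3 1561, opS 0 1562, opS 5 1563, opS 4 1564, opS 1 1565,
    opS 4 1566, opS 5 1567, opS 4 1568, opS 3 1569, opM 2 1570 169, opS 5 1571, opM 4 1572 170, opS 2 1573,
    opS 0 1574, opS 3 1575, opS 1 1576, opS 4 1577, opM 2 1578 171, opS 1 1579, opS 1 1580, opM 2 1581 172,
    opS 2 1582, opM 1 1583 173, opM 0 1581 174, opD 0]

/-- An intermediate sequence. -/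
def mid0 : List Nat :=
  [1, 2, 3, 4, 5, 6, 2, 3, 4, 5, 6, 1, 2, 3, 4, 5, 6, 2, 3, 4,
    5, 6, 1, 2, 3, 4, 5, 6, 2, 3, 4, 5, 6, 1, 2, 3, 4, 5, 6, 2,
    3, 4, 5, 6, 1, 2, 3, 4, 5, 6, 2, 3, 4, 5, 6, 7, 8, 9, 10, 1,
    2, 3, 4, 5, 6, 2, 3, 4, 5, 6, 1, 2, 3, 4, 5, 6, 2, 3, 4, 5,
    6, 1, 2, 3, 4, 5, 6, 2, 3, 4, 5, 6, 1, 2, 3, 4, 5, 6, 2, 3,
    4, 5, 6, 1, 2, 3, 4, 5, 6, 2, 3, 4, 5, 6, 7, 8, 9, 10, 1, 2,
    3, 4, 5, 6, 2, 3, 4, 5, 6, 1, 2, 3, 4, 5, 6, 2, 3, 4, 5, 6,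
    1, 2, 3, 4, 5, 6, 2, 3, 4, 5, 6, 1, 2, 3, 4, 5, 6, 2, 3, 4,
    5, 6, 1, 2, 3, 4, 5, 6, 2, 3, 4, 5, 6, 7, 8, 9, 10]

/-- An intermediate sequence. -/
def mid1 : List Nat :=
  [2, 3, 4, 5, 6, 2, 3, 4, 5, 6, 1, 2, 3, 4, 5, 6, 2, 3, 4, 5,
    6, 1, 2, 3, 4, 5, 6, 2, 3, 4, 5, 6, 1, 2, 3, 4, 5, 6, 2, 3,
    4, 5, 6, 1, 2, 3, 4, 5, 6, 2, 3, 4, 5, 6, 7, 8, 9, 10, 2, 18,
    3, 4, 5, 6, 2, 3, 4, 5, 6, 1, 2, 3, 4, 5, 6, 2, 3, 4, 5, 6,
    1, 2, 3, 4, 5, 6, 2, 3, 4, 5, 6, 2, 3, 4, 5, 6, 2, 3, 4, 5,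
    6, 1, 2, 3, 4, 5, 6, 2, 3, 4, 5, 6, 7, 8, 9, 10, 1, 2, 3, 4,
    5, 6, 2, 3, 4, 5, 6, 1, 2, 3, 4, 5, 6, 2, 3, 4, 5, 6, 1, 2,
    3, 4, 5, 6, 2, 3, 4, 5, 6, 1, 2, 3, 4, 5, 6, 2, 3, 4, 5, 6,
    1, 2, 3, 4, 5, 6, 2, 3, 4, 5, 6, 7, 8, 9, 10]

/-- An intermediate sequence. -/
def mid2 : List Nat :=
  [2, 3, 4, 5, 6, 2, 3, 4, 5, 6, 1, 2, 3, 4, 5, 6, 2, 3, 4, 5,
    6, 1, 2, 3, 4, 5, 6, 2, 3, 4, 5, 6, 2, 3, 4, 5, 6, 3, 4, 5,
    6, 1, 3, 4, 5, 6, 2, 3, 4, 5, 6, 7, 8, 9, 10, 2, 3, 4, 5, 6,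
    2, 3, 4, 5, 6, 1, 2, 3, 4, 5, 6, 2, 3, 4, 5, 6, 1, 2, 3, 4,
    5, 6, 2, 3, 4, 5, 6, 2, 3, 4, 5, 6, 2, 2, 3, 4, 5, 6, 1, 2,
    3, 4, 5, 6, 2, 3, 4, 5, 6, 7, 8, 9, 10, 1, 2, 3, 4, 5, 6, 2,
    3, 4, 5, 6, 1, 2, 3, 4, 5, 6, 2, 3, 4, 5, 6, 1, 2, 3, 4, 5,
    6, 2, 3, 4, 5, 6, 1, 2, 3, 4, 5, 6, 3, 4, 5, 6, 1, 2, 3, 4,
    5, 6, 2, 3, 4, 5, 6, 7, 8, 9, 10]

/-- An intermediate sequence. -/
def mid3 : List Nat :=
  [2, 3, 24, 6, 2, 3, 24, 6, 1, 2, 3, 24, 6, 2, 3, 24, 6, 1, 0, 3,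
    24, 126, 6, 3, 24, 6, 1, 3, 24, 6, 2, 3, 24, 172, 7, 8, 738, 742, 3, 24,
    2, 3, 6, 1, 2, 3, 24, 6, 2, 3, 24, 6, 1, 2, 3, 24, 6, 2, 3, 24,
    6, 2, 1, 2, 3, 24, 6, 2, 3, 24, 172, 7, 8, 10, 1, 2, 3, 24, 6, 2,
    3, 24, 6, 1, 2, 3, 24, 6, 2, 3, 24, 6, 1, 2, 3, 24, 6, 2, 3, 24,
    6, 2, 1, 3, 24, 6, 2, 3, 24, 172, 7, 8, 10]

/-- An intermediate sequence. -/
def mid4 : List Nat :=
  [2, 3, 24, 6, 2, 3, 24, 6, 1, 752, 179, 3, 6, 2, 3, 24, 6, 705, 144, 24,
    2, 3, 24, 172, 7, 8, 757, 755, 3, 24, 2, 754, 75, 3, 2, 3, 24, 126, 141, 756,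
    24, 130, 72, 1, 3, 144, 24, 2, 3, 24, 172, 32, 7, 10, 1, 2, 3, 24, 6, 2,
    3, 24, 6, 1, 752, 3, 24, 6, 2, 3, 24, 6, 705, 1, 753, 1, 6, 2, 3, 176,
    24, 7, 8, 10]

/-- An intermediate sequence. -/
def mid5 : List Nat :=
  [2, 3, 24, 801, 761, 2, 24, 6, 762, 809, 743, 1, 6, 791, 24, 6, 803, 705, 24, 2,
    3, 24, 802, 172, 8, 757, 755, 3, 24, 2, 754, 75, 3, 2, 3, 24, 126, 141, 759, 756,
    130, 72, 1, 808, 144, 24, 2, 179, 804, 172, 7, 10, 710, 775, 2, 24, 126, 141, 170, 24,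
    7, 10]

/-- An intermediate sequence. -/
def mid6 : List Nat :=
  [867, 761, 842, 849, 761, 2, 144, 24, 762, 856, 6, 791, 24, 803, 860, 705, 173, 82, 802, 830,
    866, 757, 139, 3, 828, 864, 75, 861, 872, 1, 665, 130, 1, 808, 24, 2, 865, 179, 802, 172,
    10, 710, 775, 823, 2, 862, 863, 141, 10]

/-- An intermediate sequence. -/
def mid7 : List Nat :=
  [915, 902, 910, 893, 921, 909, 948, 941, 897, 946, 944, 950, 952, 906, 301, 82, 919, 949, 943, 955,
    945, 929, 940, 947, 864, 938, 920, 916, 953, 951, 899, 894, 172, 10, 775, 823, 942, 2, 862, 896,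
    141]

/-- An intermediate sequence. -/
def mid8 : List Nat :=
  [1027, 1001, 915, 910, 1012, 1021, 909, 1018, 1034, 1006, 1002, 1044, 1017, 944, 998, 1026, 1022, 1025, 949, 940,
    1009, 995, 864, 916, 1005, 1016, 953, 172, 1014, 1008, 1013, 989, 994, 1024, 962, 141]

/-- An intermediate sequence. -/
def mid9 : List Nat :=
  [1058, 1127, 1001, 1090, 910, 1132, 1021, 1125, 1129, 1088, 1002, 1114, 998, 1026, 1128, 1126, 1063, 1107, 1089, 1094,
    1075, 1062, 1016, 1014, 1008, 1013, 1095, 1131, 1092]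

/-- An intermediate sequence. -/
def mid10 : List Nat :=
  [1203, 1211, 1212, 1181, 1162, 1206, 1176, 1214, 1139, 1205, 1156, 1191, 1204, 1207, 1188, 1194, 1210, 524, 1209, 1198,
    1213, 1187, 1208, 1196, 1138]

/-- An intermediate sequence. -/
def mid11 : List Nat :=
  [1286, 1295, 1292, 1296, 1299, 1279, 1285, 1298, 1261, 1300, 1293, 1297, 1291, 1277, 1288, 1256, 1264, 1131]

/-- An intermediate sequence. -/
def mid12 : List Nat :=
  [1352, 1384, 1374, 1381, 1387, 1365, 1388, 1383, 1386, 1361, 1364, 1382, 1379]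

/-- An intermediate sequence. -/
def mid13 : List Nat :=
  [1469, 1437, 1457, 1473, 1466, 1471, 1472, 1461, 1443]

/-- An intermediate sequence. -/
def mid14 : List Nat :=
  [1556, 1550, 1548, 1549, 1555, 1545, 1557, 1554]

/-- An intermediate sequence. -/
def mid15 : List Nat :=
  []

end Cfsg.Lib.CosetEnum.SuzMult
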